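import Mathlib.Algebra.Module.FinitePresentation
import Mathlib.Algebra.Module.Torsion.Basic
import Mathlib.RingTheory.Localization.Integer
import Mathlib.RingTheory.Spectrum.Maximal.Topology
import Mathlib.RingTheory.Ideal.Quotient.Operations
import Mathlib.LinearAlgebra.Matrix.Adjugate
import Mathlib.LinearAlgebra.Dual.Lemmas
import Mathlib.LinearAlgebra.Determinant
import Mathlib.LinearAlgebra.Matrix.Nondegenerate
import Mathlib.Topology.NoetherianSpace
import Mathlib.Topology.KrullDimension
import Mathlib.LinearAlgebra.FiniteDimensional.Lemmas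

/-!
# Serre's splitting theorem
-/

namespace Groth.Agent.SerreSplit

universe u

variable {R : Type u} [CommRing R] {M : Type u} [AddCommGroup M] [Module R M]

/-- elements killed by all functionals at `x`, in the fibre -/
abbrev perp (x : Ideal R) : Submodule (R ⧸ x) (M ⧸ (x • ⊤ : Submodule R M)) :=
  Submodule.span (R ⧸ x) ((x • ⊤ : Submodule R M).mkQ '' {m : M | ∀ φ : M →ₗ[R] R, φ m ∈ x})

/-- the image of an element in the reduced fibre -/
abbrev img (x : Ideal R) (m : M) : (M ⧸ (x • ⊤ : Submodule R M)) ⧸ perp (M := M) x :=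
  (perp x).mkQ ((x • ⊤ : Submodule R M).mkQ m)

theorem img_surjective (x : Ideal R) : Function.Surjective (img (M := M) x) :=
  (perp x).mkQ_surjective.comp (Submodule.mkQ_surjective _)

theorem img_add (x : Ideal R) (m m' : M) : img x (m + m') = img x m + img x m' := by
  simp [img]

theorem img_smul (x : Ideal R) (c : R) (m : M) : img x (c • m) = Ideal.Quotient.mk x c • img x m := by
  show (perp x).mkQ ((x • ⊤ : Submodule R M).mkQ (c • m)) = _
  rw [map_smul]
  rfl

theorem img_eq_zero_iff (x : Ideal R) (m : M) : img x m = 0 ↔ ∀ φ : M →ₗ[R] R, φ m ∈ x := by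
  constructor
  · intro h φ
    let φb : M →ₗ[R] R ⧸ x := (Algebra.linearMap R (R ⧸ x)).comp φ
    have hle : (x • ⊤ : Submodule R M) ≤ LinearMap.ker φb := Submodule.smul_le.2 fun c hc y _ => by
      rw [LinearMap.mem_ker]
      show Ideal.Quotient.mk x (φ (c • y)) = 0
      rw [map_smul, smul_eq_mul, map_mul, Ideal.Quotient.eq_zero_iff_mem.2 hc, zero_mul]
    let F := (x • ⊤ : Submodule R M).liftQ φb hle
    have key : ∀ z ∈ perp (M := M) x, F z = 0 := by
      intro z hz
      induction hz using Submodule.span_induction with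
      | mem z hz =>
        obtain ⟨y, hy, rfl⟩ := hz
        exact Ideal.Quotient.eq_zero_iff_mem.2 (hy φ)
      | zero => simp
      | add _ _ _ _ h1 h2 => rw [map_add, h1, h2, add_zero]
      | smul c z _ h1 =>
        obtain ⟨c, rfl⟩ := Ideal.Quotient.mk_surjective c
        rw [show (Ideal.Quotient.mk x c) • z = c • z from by
          obtain ⟨z, rfl⟩ := Submodule.Quotient.mk_surjective _ z; rfl, map_smul, h1, smul_zero]
    exact Ideal.Quotient.eq_zero_iff_mem.1 (key _ ((Submodule.Quotient.mk_eq_zero _).1 h))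
  · intro h
    exact (Submodule.Quotient.mk_eq_zero _).2 (Submodule.subset_span ⟨m, h, rfl⟩)

/-- `s` stays independent at `x`, seen by functionals -/
def Indep (x : Ideal R) {r : ℕ} (s : Fin r → M) : Prop :=
  ∃ φ : Fin r → (M →ₗ[R] R), (Matrix.of fun j i => φ j (s i)).det ∉ x

theorem linearIndependent_iff (x : Ideal R) [x.IsMaximal] {r : ℕ} (s : Fin r → M) :
    LinearIndependent (R ⧸ x) (fun i => img x (s i)) ↔ Indep x s := by
  classical
  letI := Ideal.Quotient.field x
  have himg : ∀ c : Fin r → R, (∑ i, Ideal.Quotient.mk x (c i) • img x (s i)) = img x (∑ i, c i • s i) := by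
    intro c
    rw [show img x (∑ i, c i • s i) = ∑ i, img x (c i • s i) by simp [img, map_sum]]
    simp only [img_smul]
  constructor
  · intro hli
    -- the rows cut out by functionals span everything
    let row : (M →ₗ[R] R) → (Fin r → R ⧸ x) := fun φ i => Ideal.Quotient.mk x (φ (s i))
    have hspan : Submodule.span (R ⧸ x) (Set.range row) = ⊤ := by
      by_contra hne
      obtain ⟨L, hL0, hL⟩ := Submodule.exists_dual_map_eq_bot_of_lt_top (lt_top_iff_ne_top.2 hne) inferInstance
      have hLapp : ∀ v, L v = ∑ i, v i * L (Pi.single i 1) := fun v => by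
        conv_lhs => rw [pi_eq_sum_univ' v]
        simp [map_sum, map_smul]
      choose c hc using fun i => Ideal.Quotient.mk_surjective (L (Pi.single i 1))
      have hz : img x (∑ i, c i • s i) = 0 := (img_eq_zero_iff x _).2 fun φ => by
        have h1 : L (row φ) = 0 := by
          rw [← Submodule.mem_bot (R := R ⧸ x), ← hL]
          exact Submodule.mem_map_of_mem (Submodule.subset_span ⟨φ, rfl⟩)
        rw [← Ideal.Quotient.eq_zero_iff_mem, ← h1, hLapp]
        simp [row, map_sum, hc, mul_comm]
      rw [← himg] at hz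
      have hc0 := Fintype.linearIndependent_iff.1 hli _ hz
      exact hL0 (LinearMap.ext fun v => by rw [hLapp]; simp [← hc, hc0])
    obtain ⟨σ, a, -, hsp, hl⟩ := exists_linearIndependent' (R ⧸ x) row
    rw [hspan] at hsp
    let b := Module.Basis.mk hl hsp.ge
    let e := b.indexEquiv (Pi.basisFun (R ⧸ x) (Fin r))
    refine ⟨fun j => a (e.symm j), fun h => ?_⟩
    let b' := b.reindex e
    have hu := (Pi.basisFun (R ⧸ x) (Fin r)).isUnit_det b'
    rw [Module.Basis.det_apply] at hu
    have : (Module.Basis.toMatrix (Pi.basisFun (R ⧸ x) (Fin r)) b') =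
        ((Matrix.of fun j i => a (e.symm j) (s i)).map (Ideal.Quotient.mk x)).transpose := by
      ext i j
      simp [Module.Basis.toMatrix, b', b, row]
    rw [this, Matrix.det_transpose, ← RingHom.mapMatrix_apply, ← RingHom.map_det,
      Ideal.Quotient.eq_zero_iff_mem.2 h] at hu
    exact not_isUnit_zero hu
  · rintro ⟨φ, hφ⟩
    rw [Fintype.linearIndependent_iff]
    intro g hg
    choose c hc using fun i => Ideal.Quotient.mk_surjective (g i)
    have hz : img x (∑ i, c i • s i) = 0 := by rw [← himg]; simpa [hc] using hg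
    set A := (Matrix.of fun j i => φ j (s i)).map (Ideal.Quotient.mk x)
    have hA : A.mulVec g = 0 := funext fun j => by
      have := Ideal.Quotient.eq_zero_iff_mem.2 ((img_eq_zero_iff x _).1 hz (φ j))
      simpa [A, Matrix.mulVec, dotProduct, map_sum, hc, mul_comm] using this
    have hd : A.det ≠ 0 := fun h => hφ (by
      rw [← Ideal.Quotient.eq_zero_iff_mem, RingHom.map_det]; exact h)
    exact fun i => congrFun (Matrix.eq_zero_of_mulVec_eq_zero hd hA) i

/-- localised splittings give independence -/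
theorem indep_of_split [Module.FinitePresentation R M] (x : Ideal R) [x.IsPrime] (S : Submonoid R)
    (hS : S ≤ x.primeCompl) {r : ℕ} (m : Fin r → M) (u : Fin r → S)
    (g : LocalizedModule S M →ₗ[Localization S] (Fin r → Localization S))
    (hg : ∀ i, g (LocalizedModule.mk (m i) (u i)) = Pi.single i 1) : Indep x m := by
  classical
  let f : Fin r → (M →ₗ[R] Localization S) := fun j =>
    (((LinearMap.proj j).comp g).restrictScalars R).comp (LocalizedModule.mkLinearMap S M)
  choose φ c hφ using fun j => Module.FinitePresentation.exists_lift_of_isLocalizedModule S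
    (Algebra.linearMap R (Localization S)) (f j)
  refine ⟨φ, fun hdet => ?_⟩
  have key : ∀ j i, algebraMap R (Localization S) (φ j (m i)) =
      algebraMap R (Localization S) (if j = i then (c j : R) * (u i : R) else 0) := by
    intro j i
    have h1 := LinearMap.congr_fun (hφ j) (m i)
    simp only [LinearMap.comp_apply, Algebra.linearMap_apply, LinearMap.smul_apply, f,
      LinearMap.restrictScalars_apply, LinearMap.proj_apply, LocalizedModule.mkLinearMap_apply] at h1
    have h2 : LocalizedModule.mk (m i) 1 = (u i : R) • LocalizedModule.mk (m i) (u i) := by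
      rw [LocalizedModule.smul'_mk, ← Submonoid.smul_def, LocalizedModule.mk_cancel]
    rw [h1, Submonoid.smul_def, h2, LinearMap.map_smul_of_tower, Pi.smul_apply, hg, Pi.single_apply, smul_smul]
    split_ifs <;> simp [Algebra.smul_def]
  choose w hw using fun j i => (IsLocalization.eq_iff_exists S (Localization S)).1 (key j i)
  have hmod : ∀ j i, Ideal.Quotient.mk x (φ j (m i)) = Ideal.Quotient.mk x (if j = i then (c j : R) * (u i : R) else 0) := by
    intro j i
    rw [Ideal.Quotient.eq]
    have h0 : (w j i : R) * (φ j (m i) - if j = i then (c j : R) * (u i : R) else 0) ∈ x := by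
      rw [mul_sub, hw, sub_self]; exact zero_mem _
    exact ((Ideal.IsPrime.mem_or_mem inferInstance h0).resolve_left (hS (w j i).2))
  have hA : (Matrix.of fun j i => φ j (m i)).map (Ideal.Quotient.mk x) =
      (Matrix.diagonal fun i => (c i : R) * (u i : R)).map (Ideal.Quotient.mk x) := by
    ext j i
    simp only [Matrix.map_apply, Matrix.of_apply, hmod, Matrix.diagonal_apply]
    split_ifs with h
    · subst h; rfl
    · rfl
  rw [← Ideal.Quotient.eq_zero_iff_mem, RingHom.map_det, RingHom.mapMatrix_apply, hA, ← RingHom.mapMatrix_apply,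
    ← RingHom.map_det, Ideal.Quotient.eq_zero_iff_mem, Matrix.det_diagonal, Ideal.IsPrime.prod_mem_iff] at hdet
  obtain ⟨i, -, hi⟩ := hdet
  exact (Ideal.IsPrime.mul_notMem inferInstance (hS (c i).2) (hS (u i).2)) hi

section Topology

variable (r : ℕ) (s : Fin r → M)

/-- the points where `s` becomes dependent -/
def dep : Set (MaximalSpectrum R) := {x : MaximalSpectrum R | ¬ Indep x.asIdeal s}

theorem isClosed_dep : IsClosed (dep (R := R) r s) := by
  refine isClosed_induced_iff.2 ⟨PrimeSpectrum.zeroLocus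
    (Set.range fun φ : Fin r → (M →ₗ[R] R) => (Matrix.of fun j i => φ j (s i)).det),
    PrimeSpectrum.isClosed_zeroLocus _, ?_⟩
  ext x
  simp only [Set.mem_preimage, PrimeSpectrum.mem_zeroLocus, Set.range_subset_iff, SetLike.mem_coe, dep,
    Indep, Set.mem_ofPred_eq, not_exists, not_not]
  rfl

end Topology

variable [TopologicalSpace.NoetherianSpace (MaximalSpectrum R)]

open TopologicalSpace in
theorem exists_pieces {F : Set (MaximalSpectrum R)} (hF : IsClosed F) :
    ∃ S : Finset (IrreducibleCloseds (MaximalSpectrum R)), F = ⋃ D ∈ S, (D : Set (MaximalSpectrum R)) := by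
  classical
  obtain ⟨S, hfin, hcl, hirr, rfl⟩ := NoetherianSpace.exists_finite_set_isClosed_irreducible hF
  haveI := hfin.fintype
  refine ⟨Finset.univ.image fun t : S => ⟨t.1, hirr _ t.2, hcl _ t.2⟩, ?_⟩
  ext y
  simp only [Set.mem_sUnion, Set.mem_iUnion, Finset.mem_image, Finset.mem_univ, true_and, exists_prop]
  constructor
  · rintro ⟨t, ht, hy⟩; exact ⟨_, ⟨⟨t, ht⟩, rfl⟩, hy⟩
  · rintro ⟨_, ⟨t, rfl⟩, hy⟩; exact ⟨t.1, t.2, hy⟩

open TopologicalSpace in
theorem exists_subset_piece {S : Finset (IrreducibleCloseds (MaximalSpectrum R))}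
    {C : IrreducibleCloseds (MaximalSpectrum R)} {A : Set (MaximalSpectrum R)} (hA : IsClosed A)
    (h : (C : Set (MaximalSpectrum R)) ⊆ A ∪ ⋃ D ∈ S, (D : Set (MaximalSpectrum R))) :
    (C : Set (MaximalSpectrum R)) ⊆ A ∨ ∃ D ∈ S, C ≤ D := by
  classical
  have := isIrreducible_iff_sUnion_isClosed.1 C.isIrreducible'
    (insert A (S.image fun D : IrreducibleCloseds (MaximalSpectrum R) => (D : Set (MaximalSpectrum R))))
    (by
      intro z hz
      simp only [Finset.mem_insert, Finset.mem_image] at hz
      rcases hz with rfl | ⟨D, -, rfl⟩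
      exacts [hA, D.isClosed'])
    (by
      refine h.trans ?_
      simp only [Finset.coe_insert, Set.sUnion_insert, Finset.coe_image, Set.sUnion_image]
      rfl)
  obtain ⟨z, hz, hCz⟩ := this
  simp only [Finset.mem_insert, Finset.mem_image] at hz
  rcases hz with rfl | ⟨D, hD, rfl⟩
  exacts [Or.inl hCz, Or.inr ⟨D, hD, hCz⟩]

theorem exists_with_values {ι : Type*} [Finite ι] (pt : ι → MaximalSpectrum R) (hpt : Function.Injective pt)
    (z : ι → M) : ∃ t : M, ∀ i, img (pt i).asIdeal t = img (pt i).asIdeal (z i) := by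
  classical
  letI := Fintype.ofFinite ι
  have hcop : Pairwise (Function.onFun IsCoprime fun i => (pt i).asIdeal) := fun i j hij =>
    Ideal.isCoprime_of_isMaximal (I := (pt i).asIdeal) (J := (pt j).asIdeal) fun h => hij (hpt (MaximalSpectrum.ext h))
  choose e he using fun j : ι => Ideal.exists_forall_sub_mem_ideal hcop (Pi.single j 1)
  refine ⟨∑ j, e j • z j, fun i => ?_⟩
  have hi : ∀ j, Ideal.Quotient.mk (pt i).asIdeal (e j) = if i = j then 1 else 0 := fun j => by
    rw [Ideal.Quotient.eq.2 (he j i), Pi.single_apply]; split_ifs <;> simp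
  rw [show img (pt i).asIdeal (∑ j, e j • z j) = ∑ j, img (pt i).asIdeal (e j • z j) by simp [img, map_sum]]
  simp only [img_smul, hi, ite_smul, one_smul, zero_smul]
  simp

variable [Module.Finite R M]

open TopologicalSpace in
/-- Serre's proposition -/
theorem splitting : ∀ (k h : ℕ) (s : Fin h → M) (F : Set (MaximalSpectrum R)), IsClosed F →
    ∀ (pts : Finset (MaximalSpectrum R)), (∀ x ∈ pts, x ∈ F) → ∀ (v : MaximalSpectrum R → M),
    (∀ x : MaximalSpectrum R, h + k ≤ Module.finrank (R ⧸ x.asIdeal)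
      ((M ⧸ (x.asIdeal • ⊤ : Submodule R M)) ⧸ perp (M := M) x.asIdeal)) →
    dep h s ⊆ F →
    ∃ (t : M) (F' : Set (MaximalSpectrum R)), IsClosed F' ∧
      (∀ x ∈ pts, img x.asIdeal t = img x.asIdeal (v x)) ∧
      dep (h + 1) (Fin.snoc s t) ⊆ F ∪ F' ∧
      ∀ Z : IrreducibleCloseds (MaximalSpectrum R), (Z : Set (MaximalSpectrum R)) ⊆ F' →
        (k : ℕ∞) ≤ Order.coheight Z := by
  classical
  intro k
  induction k with
  | zero =>
    intro h s F _ pts _ v _ _
    obtain ⟨t, ht⟩ := exists_with_values (fun x : pts => x.1) Subtype.val_injective (fun x : pts => v x.1)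
    exact ⟨t, Set.univ, isClosed_univ, fun x hx => ht ⟨x, hx⟩, by simp, fun Z _ => by simp⟩
  | succ k ih =>
    intro h s F hF pts hpts v hdim hdep
    obtain ⟨t₁, F₁, hF₁, ht₁, hdep₁, hco₁⟩ := ih h s F hF pts hpts v (fun x => by have := hdim x; omega) hdep
    obtain ⟨S₁, hS₁⟩ := exists_pieces hF₁
    let Y₁ := S₁.filter fun D : IrreducibleCloseds (MaximalSpectrum R) => ¬ ((D : Set (MaximalSpectrum R)) ⊆ F)
    choose y hyD hyF using fun D : Y₁ => Set.not_subset.1 (Finset.mem_filter.1 D.2).2
    -- good values at the chosen points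
    have hgood : ∀ x : MaximalSpectrum R, x ∉ F → ∃ w : M, Indep x.asIdeal (Fin.snoc s w) := by
      intro x hx
      haveI := x.isMaximal
      letI := Ideal.Quotient.field x.asIdeal
      have hli := (linearIndependent_iff x.asIdeal s).2 (by_contra fun hh => hx (hdep hh))
      have hne : Submodule.span (R ⧸ x.asIdeal) (Set.range fun i => img x.asIdeal (s i)) ≠ ⊤ := by
        intro htop
        have h1 := finrank_span_eq_card hli
        rw [htop, finrank_top, Fintype.card_fin] at h1
        have := hdim x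
        omega
      obtain ⟨z, -, hz⟩ := SetLike.exists_of_lt (lt_top_iff_ne_top.2 hne)
      obtain ⟨w, rfl⟩ := img_surjective x.asIdeal z
      refine ⟨w, (linearIndependent_iff x.asIdeal _).1 ?_⟩
      rw [show (fun i => img x.asIdeal ((Fin.snoc s w : Fin (h + 1) → M) i)) =
        Fin.snoc (fun i => img x.asIdeal (s i)) (img x.asIdeal w) by
          funext i; refine Fin.lastCases ?_ (fun j => ?_) i <;> simp]
      exact linearIndependent_finSnoc.2 ⟨hli, hz⟩
    choose w hw using hgood
    let Y : Finset (MaximalSpectrum R) := Finset.univ.image y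
    have hYF : ∀ x ∈ Y, x ∉ F := by
      intro x hx; obtain ⟨D, -, rfl⟩ := Finset.mem_image.1 hx; exact hyF D
    let v₂ : MaximalSpectrum R → M := fun x => if hx : x ∈ Y then w x (hYF x hx) - t₁ else 0
    obtain ⟨t₂, F₂, hF₂, ht₂, hdep₂, hco₂⟩ := ih (h + 1) (Fin.snoc s t₁) (F ∪ F₁) (hF.union hF₁) (pts ∪ Y)
      (by
        intro x hx
        rcases Finset.mem_union.1 hx with hx | hx
        · exact Or.inl (hpts x hx)
        · obtain ⟨D, -, rfl⟩ := Finset.mem_image.1 hx
          exact Or.inr (hS₁.ge (Set.mem_biUnion (Finset.mem_filter.1 D.2).1 (hyD D))))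
      v₂ (fun x => by have := hdim x; omega) hdep₁
    obtain ⟨S₂, hS₂⟩ := exists_pieces hF₂
    let Y₂ := S₂.filter fun D : IrreducibleCloseds (MaximalSpectrum R) => ¬ ((D : Set (MaximalSpectrum R)) ⊆ F ∪ F₁)
    choose y' hy'D hy'F using fun D : Y₂ => Set.not_subset.1 (Finset.mem_filter.1 D.2).2
    let Y' : Finset (MaximalSpectrum R) := Finset.univ.image y'
    let P := pts ∪ Y ∪ Y'
    have hcop : Pairwise (Function.onFun IsCoprime fun i : P => i.1.asIdeal) := fun i j hij =>
      Ideal.isCoprime_of_isMaximal (I := i.1.asIdeal) (J := j.1.asIdeal) fun h => hij (Subtype.ext (MaximalSpectrum.ext h))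
    obtain ⟨a, ha⟩ := Ideal.exists_forall_sub_mem_ideal hcop (fun i : P => if i.1 ∈ Y then 1 else 0)
    have ha' : ∀ (x : MaximalSpectrum R) (hx : x ∈ P), Ideal.Quotient.mk x.asIdeal a = if x ∈ Y then 1 else 0 := fun x hx => by
      rw [Ideal.Quotient.eq.2 (ha ⟨x, hx⟩)]; split_ifs <;> simp
    let t := t₁ + a • t₂
    have hval : ∀ x : MaximalSpectrum R, img x.asIdeal t = img x.asIdeal t₁ + Ideal.Quotient.mk x.asIdeal a • img x.asIdeal t₂ :=
      fun x => by rw [img_add, img_smul]
    -- good points
    have hindep : ∀ x : MaximalSpectrum R, ∀ z : M, img x.asIdeal t = img x.asIdeal z →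
        Indep x.asIdeal (Fin.snoc s z) → x ∉ dep (h + 1) (Fin.snoc s t) := by
      intro x z hz hi hmem
      haveI := x.isMaximal
      apply hmem
      rw [← linearIndependent_iff] at hi ⊢
      convert hi using 2 with i
      refine Fin.lastCases ?_ (fun j => ?_) i <;> simp [hz]
    have hYgood : ∀ x ∈ Y, x ∉ dep (h + 1) (Fin.snoc s t) := by
      intro x hx
      refine hindep x (w x (hYF x hx)) ?_ (hw x (hYF x hx))
      rw [hval, ha' x (by simp [P, hx]), if_pos hx, one_smul, ht₂ x (Finset.mem_union_right _ hx)]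
      simp only [v₂, dif_pos hx]
      rw [← img_add, add_sub_cancel]
    have hY'good : ∀ x ∈ Y', x ∉ dep (h + 1) (Fin.snoc s t) := by
      intro x hx
      obtain ⟨D, -, rfl⟩ := Finset.mem_image.1 hx
      have hnY : y' D ∉ Y := fun hh => by
        obtain ⟨E, -, he⟩ := Finset.mem_image.1 hh
        exact hy'F D (Or.inr (he ▸ hS₁.ge (Set.mem_biUnion (Finset.mem_filter.1 E.2).1 (hyD E))))
      refine hindep _ t₁ ?_ (by_contra fun hh => hy'F D (hdep₁ hh))
      rw [hval, ha' _ (by simp [P, Y']), if_neg hnY, zero_smul, add_zero]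
    have hsub : dep (h + 1) (Fin.snoc s t) ⊆ F ∪ F₁ ∪ F₂ := by
      intro x hx
      by_contra hx'
      apply hx
      haveI := x.isMaximal
      have hi : Indep x.asIdeal (Fin.snoc (Fin.snoc s t₁) t₂) := by_contra fun hh => hx' (hdep₂ hh)
      rw [← linearIndependent_iff] at hi ⊢
      rw [Fintype.linearIndependent_iff] at hi ⊢
      intro g hg
      let g' : Fin (h + 1 + 1) → R ⧸ x.asIdeal :=
        Fin.snoc g (g (Fin.last h) * Ideal.Quotient.mk x.asIdeal a)
      have h2 := hi g' (by
        rw [← hg, Fin.sum_univ_castSucc, Fin.sum_univ_castSucc, Fin.sum_univ_castSucc]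
        simp only [g', Fin.snoc_castSucc, Fin.snoc_last, hval, smul_add, smul_smul]
        abel)
      intro i
      simpa [g'] using h2 i.castSucc
    obtain ⟨W, hW⟩ := exists_pieces (isClosed_dep (R := R) (h + 1) (Fin.snoc s t))
    let W' := W.filter fun D : IrreducibleCloseds (MaximalSpectrum R) => ¬ ((D : Set (MaximalSpectrum R)) ⊆ F)
    refine ⟨t, ⋃ D ∈ W', (D : Set (MaximalSpectrum R)),
      W'.finite_toSet.isClosed_biUnion fun D _ => D.isClosed', fun x hx => ?_, ?_, fun Z hZ => ?_⟩
    · have hnY : x ∉ Y := fun hh => hYF x hh (hpts x hx)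
      rw [hval, ha' x (by simp [P, hx]), if_neg hnY, zero_smul, add_zero, ht₁ x hx]
    · rw [hW]
      intro x hx
      obtain ⟨D, hD, hxD⟩ := Set.mem_iUnion₂.1 hx
      by_cases hDF : (D : Set (MaximalSpectrum R)) ⊆ F
      · exact Or.inl (hDF hxD)
      · exact Or.inr (Set.mem_biUnion (Finset.mem_filter.2 ⟨hD, hDF⟩) hxD)
    · obtain h0 | ⟨C, hC, hZC⟩ := exists_subset_piece (A := ∅) isClosed_empty (by simpa using hZ)
      · exact absurd (h0 Z.isIrreducible'.1.some_mem) (Set.notMem_empty _)
      refine le_trans ?_ (Order.coheight_anti hZC)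
      obtain ⟨hCW, hCF⟩ := Finset.mem_filter.1 hC
      have hCdep : (C : Set (MaximalSpectrum R)) ⊆ dep (h + 1) (Fin.snoc s t) :=
        hW ▸ fun x hx => Set.mem_biUnion hCW hx
      have hstrict : ∀ D : IrreducibleCloseds (MaximalSpectrum R), C < D → (k : ℕ∞) ≤ Order.coheight D →
          ((k + 1 : ℕ) : ℕ∞) ≤ Order.coheight C := fun D hlt hle => by
        rw [Nat.cast_add, Nat.cast_one]
        exact (add_le_add hle le_rfl).trans (Order.coheight_add_one_le hlt)
      have hco₁' : ∀ D ∈ S₁, (k : ℕ∞) ≤ Order.coheight D := fun D hD =>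
        hco₁ D fun x hx => hS₁.ge (Set.mem_biUnion hD hx)
      have case1 : ∀ D ∈ S₁, C ≤ D → ((k + 1 : ℕ) : ℕ∞) ≤ Order.coheight C := by
        intro D hD hle
        refine hstrict D (lt_of_le_of_ne hle ?_) (hco₁' D hD)
        rintro rfl
        have hDY : C ∈ Y₁ := Finset.mem_filter.2 ⟨hD, hCF⟩
        exact hYgood (y ⟨C, hDY⟩) (Finset.mem_image_of_mem _ (Finset.mem_univ _)) (hCdep (hyD ⟨C, hDY⟩))
      obtain hA | ⟨D, hD, hle⟩ := exists_subset_piece (C := C) (S := S₂) (A := F ∪ F₁) (hF.union hF₁) (by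
        refine hCdep.trans (hsub.trans ?_); rw [← hS₂])
      · obtain hA' | ⟨D, hD, hle⟩ := exists_subset_piece (C := C) (S := S₁) (A := F) hF (hS₁ ▸ hA)
        · exact absurd hA' hCF
        · exact case1 D hD hle
      · by_cases hDA : (D : Set (MaximalSpectrum R)) ⊆ F ∪ F₁
        · obtain hA' | ⟨E, hE, hle'⟩ := exists_subset_piece (C := C) (S := S₁) (A := F) hF
            (hS₁ ▸ (fun x hx => hDA (hle hx)))
          · exact absurd hA' hCF
          · exact case1 E hE hle'
        · refine hstrict D (lt_of_le_of_ne hle ?_) (hco₂ D fun x hx => hS₂.ge (Set.mem_biUnion hD hx))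
          rintro rfl
          have hDY : C ∈ Y₂ := Finset.mem_filter.2 ⟨hD, hDA⟩
          exact hY'good (y' ⟨C, hDY⟩) (Finset.mem_image_of_mem _ (Finset.mem_univ _)) (hCdep (hy'D ⟨C, hDY⟩))

end Groth.Agent.SerreSplit
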